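import Mathlib

/-!
# Zariski pairs with the same completion: approximation of linear maps
-/

set_option autoImplicit false
set_option linter.style.haveILetI false

universe u

open TensorProduct

namespace Groth.Agent.H73.ZarPair

variable {A A' : Type u} [CommRing A] [CommRing A'] [Algebra A A'] (J : Ideal A)

local notation "J'" => Ideal.map (algebraMap A A') J

/-- `A → A'` induces bijections `A/J^n → A'/J^n A'`, and `J`, `J A'` are in the Jacobson radicals. -/
structure SameCompl : Prop where
  inj : ∀ (n : ℕ) (a : A), algebraMap A A' a ∈ J' ^ n → a ∈ J ^ n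
  surj : ∀ (n : ℕ) (a' : A'), ∃ a : A, a' - algebraMap A A' a ∈ J' ^ n
  jac : J ≤ (⊥ : Ideal A).jacobson
  jac' : J' ≤ (⊥ : Ideal A').jacobson

variable {J}

theorem approx_tensor (h : SameCompl (A' := A') J) (n : ℕ) {M : Type*} [AddCommGroup M] [Module A M]
    (x : A' ⊗[A] M) :
    ∃ m : M, x - (1 : A') ⊗ₜ m ∈ J' ^ n • (⊤ : Submodule A' (A' ⊗[A] M)) := by
  induction x using TensorProduct.induction_on with
  | zero => exact ⟨0, by simp⟩
  | tmul a' m =>
    obtain ⟨a, ha⟩ := h.surj n a'
    refine ⟨a • m, ?_⟩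
    have : a' ⊗ₜ[A] m - (1 : A') ⊗ₜ (a • m) = (a' - algebraMap A A' a) • ((1 : A') ⊗ₜ[A] m) := by
      rw [← TensorProduct.smul_tmul, ← Algebra.algebraMap_eq_smul_one, ← TensorProduct.sub_tmul,
        TensorProduct.smul_tmul', smul_eq_mul, mul_one]
    rw [this]
    exact Submodule.smul_mem_smul ha Submodule.mem_top
  | add x y hx hy =>
    obtain ⟨a, ha⟩ := hx
    obtain ⟨b, hb⟩ := hy
    exact ⟨a + b, by rw [TensorProduct.tmul_add, add_sub_add_comm]; exact add_mem ha hb⟩

theorem tmul_mem_map_pow {M : Type*} [AddCommGroup M] [Module A M] (I : Ideal A) {x : M}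
    (hx : x ∈ I • (⊤ : Submodule A M)) :
    (1 : A') ⊗ₜ[A] x ∈ I.map (algebraMap A A') • (⊤ : Submodule A' (A' ⊗[A] M)) := by
  refine Submodule.smul_induction_on hx (fun r hr y _ => ?_) (fun a b ha hb => ?_)
  · rw [TensorProduct.tmul_smul, ← algebraMap_smul A' r]
    exact Submodule.smul_mem_smul (Ideal.mem_map_of_mem _ hr) Submodule.mem_top
  · rw [TensorProduct.tmul_add]
    exact add_mem ha hb

variable [IsNoetherianRing A] [IsNoetherianRing A']

theorem flat (h : SameCompl (A' := A') J) : Module.Flat A A' := by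
  rw [Module.Flat.iff_lTensor_injective']
  intro I
  rw [injective_iff_map_eq_zero]
  intro x hx
  have hmem : ∀ n : ℕ, x ∈ J' ^ n • (⊤ : Submodule A' (A' ⊗[A] I)) := by
    intro n
    obtain ⟨k, hk⟩ := Ideal.exists_pow_inf_eq_pow_smul J (I : Submodule A A)
    obtain ⟨i, hi⟩ := approx_tensor h (n + k) x
    have h1 : LinearMap.lTensor A' I.subtype (x - (1 : A') ⊗ₜ i) ∈
        J' ^ (n + k) • (⊤ : Submodule A' (A' ⊗[A] A)) := by
      have e : ∀ y, LinearMap.baseChange A' I.subtype y = LinearMap.lTensor A' I.subtype y :=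
        fun y => rfl
      rw [← e]
      exact Submodule.smul_top_le_comap_smul_top _ (LinearMap.baseChange A' I.subtype) hi
    rw [map_sub, hx, zero_sub, neg_mem_iff, LinearMap.lTensor_tmul, Submodule.subtype_apply] at h1
    have h2 := Submodule.smul_top_le_comap_smul_top (J' ^ (n + k))
      (TensorProduct.AlgebraTensorModule.rid A A' A').toLinearMap h1
    rw [Submodule.mem_comap, LinearEquiv.coe_coe, TensorProduct.AlgebraTensorModule.rid_tmul,
      ← Algebra.algebraMap_eq_smul_one, smul_eq_mul, Ideal.mul_top] at h2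
    have h3 : (i : A) ∈ J ^ (n + k) := h.inj _ _ h2
    have h4 : (i : A) ∈ J ^ (n + k) • (⊤ : Submodule A A) ⊓ I :=
      ⟨by rw [smul_eq_mul, Ideal.mul_top]; exact h3, i.2⟩
    rw [hk (n + k) le_add_self, Nat.add_sub_cancel] at h4
    have h5 : (i : A) ∈ (J ^ n • (⊤ : Submodule A I)).map I.subtype := by
      rw [Submodule.map_smul'', Submodule.map_top, Submodule.range_subtype]
      exact Submodule.smul_mono le_rfl inf_le_right h4
    obtain ⟨i', hi', e⟩ := h5
    obtain rfl : i' = i := Subtype.ext e
    have h6 := tmul_mem_map_pow (A' := A') (J ^ n) hi'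
    rw [Ideal.map_pow] at h6
    have h7 := Submodule.smul_mono_left (Ideal.pow_le_pow_right (Nat.le_add_right n k)) hi
    have := add_mem h7 h6
    rwa [sub_add_cancel] at this
  have := (Submodule.mem_iInf _).2 hmem
  rwa [Ideal.iInf_pow_smul_eq_bot_of_le_jacobson _ h.jac', Submodule.mem_bot] at this

theorem faithfullyFlat (h : SameCompl (A' := A') J) : Module.FaithfullyFlat A A' where
  toFlat := flat h
  submodule_ne_top m hm htop := by
    have hJm : J ≤ m := h.jac.trans (sInf_le ⟨bot_le, hm⟩)
    have key : ∀ x ∈ m • (⊤ : Submodule A A'), ∃ a ∈ m, x - algebraMap A A' a ∈ J' := by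
      intro x hx
      refine Submodule.smul_induction_on hx (fun r hr y _ => ?_) (fun p q hp hq => ?_)
      · obtain ⟨b, hb⟩ := h.surj 1 y
        rw [pow_one] at hb
        refine ⟨r * b, m.mul_mem_right _ hr, ?_⟩
        rw [Algebra.smul_def, map_mul, ← mul_sub]
        exact Ideal.mul_mem_left _ _ hb
      · obtain ⟨a, ha, ha'⟩ := hp
        obtain ⟨b, hb, hb'⟩ := hq
        exact ⟨a + b, add_mem ha hb, by rw [map_add, add_sub_add_comm]; exact add_mem ha' hb'⟩
    obtain ⟨a, ha, ha'⟩ := key 1 (by rw [htop]; trivial)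
    have h1 : (1 - a) ∈ J := by
      have := h.inj 1 (1 - a) (by rwa [pow_one, map_sub, map_one])
      rwa [pow_one] at this
    exact hm.ne_top ((Ideal.eq_top_iff_one _).2 (by simpa using add_mem (hJm h1) ha))

variable {M N : Type u} [AddCommGroup M] [Module A M] [Module.Finite A M]
  [AddCommGroup N] [Module A N]

/-- A linear map over `A'` is congruent modulo `J^n` to one defined over `A`. -/
theorem exists_approx_map (h : SameCompl (A' := A') J) (f : A' ⊗[A] M →ₗ[A'] A' ⊗[A] N) (n : ℕ) :
    ∃ u : M →ₗ[A] N, ∀ x, f x - u.baseChange A' x ∈ J' ^ n • (⊤ : Submodule A' (A' ⊗[A] N)) := by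
  classical
  haveI := flat h
  obtain ⟨k, π, hπ⟩ := Module.Finite.exists_fin' A M
  obtain ⟨m, R, hR⟩ := Module.Finite.exists_fin' A (LinearMap.ker π)
  let c : Fin m → Fin k → A := fun i j => (R (Pi.single i 1) : Fin k → A) j
  let T : (Fin k → N) →ₗ[A] (Fin m → N) :=
    LinearMap.pi fun i => ∑ j, c i j • LinearMap.proj j
  let y : Fin k → A' ⊗[A] N := fun j => f ((1 : A') ⊗ₜ π (Pi.single j 1))
  let Y : A' ⊗[A] (Fin k → N) :=
    ∑ j, LinearMap.baseChange A' (LinearMap.single A (fun _ : Fin k => N) j) (y j)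
  have hYj : ∀ j, LinearMap.baseChange A' (LinearMap.proj j) Y = y j := by
    intro j
    simp only [Y, map_sum]
    rw [Finset.sum_eq_single j]
    · rw [← LinearMap.comp_apply, ← LinearMap.baseChange_comp, LinearMap.proj_comp_single_same,
        LinearMap.baseChange_id, LinearMap.id_apply]
    · intro b _ hb
      rw [← LinearMap.comp_apply, ← LinearMap.baseChange_comp,
        LinearMap.proj_comp_single_ne _ _ _ _ hb.symm, LinearMap.baseChange_zero,
        LinearMap.zero_apply]
    · simp
  have hsep : ∀ Z : A' ⊗[A] (Fin m → N),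
      Z = ∑ i, LinearMap.baseChange A' (LinearMap.single A (fun _ : Fin m => N) i)
        (LinearMap.baseChange A' (LinearMap.proj i) Z) := by
    intro Z
    induction Z using TensorProduct.induction_on with
    | zero => simp
    | tmul a v =>
      simp only [LinearMap.baseChange_tmul, ← TensorProduct.tmul_sum]
      congr 1
      exact (Finset.univ_sum_single v).symm
    | add p q hp hq =>
      simp only [map_add, Finset.sum_add_distrib]
      rw [← hp, ← hq]
  have hsingle : ∀ v : Fin k → A, v = ∑ j, v j • Pi.single j (1 : A) := fun v => by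
    ext l; simp [Finset.sum_apply, Pi.single_apply]
  have hTY : LinearMap.baseChange A' T Y = 0 := by
    rw [hsep (LinearMap.baseChange A' T Y)]
    refine Finset.sum_eq_zero fun i _ => ?_
    rw [← LinearMap.comp_apply (f := LinearMap.baseChange A' (LinearMap.proj i)),
      ← LinearMap.baseChange_comp, show (LinearMap.proj i).comp T = ∑ j, c i j • LinearMap.proj j
        from LinearMap.proj_pi _ _]
    have e : ∀ W, LinearMap.baseChange A' (∑ j, c i j • (LinearMap.proj j : (Fin k → N) →ₗ[A] N)) W =
        ∑ j, c i j • LinearMap.baseChange A' (LinearMap.proj j) W := fun W => by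
      rw [← LinearMap.baseChangeHom_apply, map_sum, LinearMap.sum_apply]
      simp only [map_smul, LinearMap.smul_apply, LinearMap.baseChangeHom_apply]
    rw [e]
    simp only [hYj]
    have e2 : ∑ j, c i j • y j = f ((1 : A') ⊗ₜ π (R (Pi.single i 1) : Fin k → A)) := by
      conv_rhs => rw [hsingle (R (Pi.single i 1) : Fin k → A)]
      simp only [map_sum, map_smul, TensorProduct.tmul_sum, TensorProduct.tmul_smul, y, c,
        LinearMap.map_smul_of_tower]
    rw [e2, LinearMap.mem_ker.1 (R (Pi.single i 1)).2, TensorProduct.tmul_zero, map_zero, map_zero]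
  obtain ⟨z, hz⟩ := (Module.Flat.lTensor_exact A'
    (LinearMap.exact_subtype_ker_map T) Y).1 hTY
  obtain ⟨v, hv⟩ := approx_tensor h n z
  let hmap : (Fin k → A) →ₗ[A] N := Fintype.linearCombination A (v : Fin k → N)
  have hker : LinearMap.ker π ≤ LinearMap.ker hmap := by
    intro w hw
    obtain ⟨r, hr⟩ := hR ⟨w, hw⟩
    have hc : hmap.comp ((LinearMap.ker π).subtype.comp R) = 0 := by
      refine LinearMap.pi_ext' fun i => LinearMap.ext_ring ?_
      have := congrFun (LinearMap.mem_ker.1 v.2) i
      simpa [T, hmap, Fintype.linearCombination_apply, c] using this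
    have := LinearMap.congr_fun hc r
    simpa [hr] using this
  let u : M →ₗ[A] N := (LinearMap.ker π).liftQ hmap hker ∘ₗ
    (π.quotKerEquivOfSurjective hπ).symm.toLinearMap
  have hu : ∀ j, u (π (Pi.single j 1)) = (v : Fin k → N) j := by
    intro j
    have : (π.quotKerEquivOfSurjective hπ).symm (π (Pi.single j 1)) =
        Submodule.Quotient.mk (Pi.single j 1) := by
      apply (π.quotKerEquivOfSurjective hπ).injective
      rw [LinearEquiv.apply_symm_apply]
      rfl
    simp [u, this, hmap, Fintype.linearCombination_apply_single]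
  have hgen : ∀ j, f ((1 : A') ⊗ₜ π (Pi.single j 1)) -
      u.baseChange A' ((1 : A') ⊗ₜ π (Pi.single j 1)) ∈
      J' ^ n • (⊤ : Submodule A' (A' ⊗[A] N)) := by
    intro j
    have h1 := Submodule.smul_top_le_comap_smul_top (J' ^ n)
      (LinearMap.baseChange A' ((LinearMap.proj j).comp (LinearMap.ker T).subtype)) hv
    rw [Submodule.mem_comap, map_sub, LinearMap.baseChange_comp, LinearMap.comp_apply,
      show LinearMap.baseChange A' (LinearMap.ker T).subtype z = Y from hz, hYj,
      LinearMap.comp_apply, LinearMap.baseChange_tmul, LinearMap.baseChange_tmul] at h1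
    rw [LinearMap.baseChange_tmul, hu]
    exact h1
  refine ⟨u, fun x => ?_⟩
  suffices H : (⊤ : Submodule A' (A' ⊗[A] M)) ≤
      (J' ^ n • (⊤ : Submodule A' (A' ⊗[A] N))).comap (f - u.baseChange A') from H Submodule.mem_top
  rintro x -
  induction x using TensorProduct.induction_on with
  | zero => exact zero_mem _
  | tmul a w =>
    obtain ⟨t, rfl⟩ := hπ w
    rw [hsingle t, map_sum, TensorProduct.tmul_sum]
    refine Submodule.sum_mem _ fun j _ => ?_
    have : a ⊗ₜ[A] π (t j • Pi.single j 1) =
        (a * algebraMap A A' (t j)) • ((1 : A') ⊗ₜ[A] π (Pi.single j 1)) := by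
      rw [map_smul, TensorProduct.tmul_smul, TensorProduct.smul_tmul', TensorProduct.smul_tmul',
        smul_eq_mul, mul_one, Algebra.smul_def, mul_comm]
    rw [this]
    exact Submodule.smul_mem _ _ (hgen j)
  | add p q hp hq => exact add_mem hp hq

variable [Module.Finite A N]

/-- If a map over `A'` is surjective away from `V(Q)`, so is a suitable map over `A`. -/
theorem exists_map_range (h : SameCompl (A' := A') J) (Q : Ideal A) (hQ : J ≤ Q.radical)
    (f : A' ⊗[A] M →ₗ[A'] A' ⊗[A] N) (a : ℕ)
    (hf : (Q ^ a).map (algebraMap A A') • (⊤ : Submodule A' (A' ⊗[A] N)) ≤ LinearMap.range f) :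
    ∃ u : M →ₗ[A] N, Q ^ a • (⊤ : Submodule A N) ≤ LinearMap.range u := by
  obtain ⟨r, hr⟩ := Ideal.exists_pow_le_of_le_radical_of_fg hQ (IsNoetherian.noetherian J)
  obtain ⟨u, hu⟩ := exists_approx_map h f (r * a + 1)
  refine ⟨u, ?_⟩
  set P := (Q ^ a).map (algebraMap A A') • (⊤ : Submodule A' (A' ⊗[A] N))
  have hle : P ≤ LinearMap.range (u.baseChange A') := by
    refine Submodule.le_of_le_smul_of_le_jacobson_bot (IsNoetherian.noetherian P) h.jac' ?_
    intro p hp
    obtain ⟨x, rfl⟩ := hf hp
    have h1 : f x = u.baseChange A' x + (f x - u.baseChange A' x) := by abel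
    rw [h1]
    refine add_mem (Submodule.mem_sup_left ⟨x, rfl⟩) (Submodule.mem_sup_right ?_)
    have h2 : J' ^ (r * a + 1) • (⊤ : Submodule A' (A' ⊗[A] N)) ≤ J' • P := by
      rw [pow_succ', Submodule.mul_smul, pow_mul, ← Ideal.map_pow, ← Ideal.map_pow]
      exact Submodule.smul_mono le_rfl (Submodule.smul_mono_left
        (Ideal.map_mono (Ideal.pow_right_mono hr a)))
    exact h2 (hu x)
  refine Submodule.smul_le.2 fun q hq x _ => ?_
  haveI := faithfullyFlat h
  rw [← Submodule.Quotient.mk_eq_zero]
  apply Module.FaithfullyFlat.tensorProduct_mk_injective (A := A) (B := A')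
    (N ⧸ LinearMap.range u)
  obtain ⟨w, hw⟩ := hle (Submodule.smul_mem_smul (Ideal.mem_map_of_mem _ hq)
    (Submodule.mem_top (x := (1 : A') ⊗ₜ[A] x)))
  have h3 := congrArg (LinearMap.baseChange A' (LinearMap.range u).mkQ) hw
  rw [← LinearMap.comp_apply (f := LinearMap.baseChange A' (LinearMap.range u).mkQ),
    ← LinearMap.baseChange_comp, LinearMap.range_mkQ_comp, LinearMap.baseChange_zero,
    LinearMap.zero_apply, algebraMap_smul, ← TensorProduct.tmul_smul,
    LinearMap.baseChange_tmul] at h3
  rw [TensorProduct.mk_apply, map_zero]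
  exact h3.symm

end Groth.Agent.H73.ZarPair
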