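import Groth.Agent.Lib.QCoh.Tilde
import Groth.Agent.Lib.QCoh.Localizing
import Groth.Agent.Lib.ClSub.Basis
import Mathlib

/-!
# Morphisms of `tilde` modules over an open subscheme of a Noetherian affine scheme
-/

set_option autoImplicit false
set_option linter.style.haveILetI false

universe u

open CategoryTheory AlgebraicGeometry Opposite
open Groth.Agent.Lib.QCoh.Localizing

namespace Groth.Agent.H73.ZarPair

variable {R : CommRingCat.{u}}
variable {M N : Type u} [AddCommGroup M] [Module R M] [AddCommGroup N] [Module R N]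

/-- The sheaf of a module. -/
noncomputable abbrev tl (R : CommRingCat.{u}) (M : Type u) [AddCommGroup M] [Module R M] :
    (Spec R).Modules :=
  tilde (ModuleCat.of R M)

/-- `M → Γ(W, M~)`. -/
noncomputable def tO (R : CommRingCat.{u}) (M : Type u) [AddCommGroup M] [Module R M]
    (W : (Spec R).Opens) : M →ₗ[R] Γ(tl R M, W) :=
  (tilde.toOpen (ModuleCat.of R M) W).hom

theorem res_smul_spec (P : (Spec R).Modules) {U W : (Spec R).Opens}
    (h : W ≤ U) (r : R) (x : Γ(P, U)) : res P h (r • x) = r • res P h x := by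
  rw [smul_spec_eq, smul_spec_eq, res_smul, resR_resR]

theorem res_tO {U W : (Spec R).Opens} (h : W ≤ U) (m : M) :
    res (tl R M) h (tO R M U m) = tO R M W m :=
  congr($(tilde.toOpen_res (ModuleCat.of R M) U W (homOfLE h)) m)

theorem app_smul_spec {P P' : (Spec R).Modules} (φ : P ⟶ P')
    {U : (Spec R).Opens} (r : R) (x : Γ(P, U)) : φ.app U (r • x) = r • φ.app U x := by
  rw [smul_spec_eq, smul_spec_eq, Scheme.Modules.Hom.app_smul]

theorem app_tO (u : M →ₗ[R] N) (W : (Spec R).Opens) (m : M) :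
    (tilde.map (ModuleCat.ofHom u)).app W (tO R M W m) = tO R N W (u m) :=
  congr($(tilde.toOpen_map_app (ModuleCat.ofHom u) W) m)

variable {Q : Ideal R} {W : (Spec R).Opens}

theorem basicOpen_le_of_mem (hW : ∀ p : PrimeSpectrum R, p ∈ W ↔ ¬ Q ≤ p.asIdeal) {q : R}
    (hq : q ∈ Q) : (PrimeSpectrum.basicOpen (R := R) q : (Spec R).Opens) ≤ W :=
  fun p hp => (hW p).2 fun h => hp (h hq)

theorem mem_radical_of_basicOpen_le (hW : ∀ p : PrimeSpectrum R, p ∈ W ↔ ¬ Q ≤ p.asIdeal) {q : R}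
    (hq : (PrimeSpectrum.basicOpen (R := R) q : (Spec R).Opens) ≤ W) :
    q ∈ Q.radical := by
  rw [Ideal.radical_eq_sInf, Ideal.mem_sInf]
  rintro p ⟨hQp, hp⟩
  by_contra h
  exact (hW ⟨p, hp⟩).1 (hq (x := ⟨p, hp⟩) h) hQp

instance isLocalizedModule_toOpen (P : ModuleCat.{u} R) (q : R) :
    IsLocalizedModule (Submonoid.powers q) (tilde.toOpen P (PrimeSpectrum.basicOpen q)).hom :=
  inferInstanceAs (IsLocalizedModule.Away q (tilde.toOpen P (PrimeSpectrum.basicOpen q)).hom)

theorem loc_surj (q : R) (s : Γ(tl R M, PrimeSpectrum.basicOpen (R := R) q)) :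
    ∃ (k : ℕ) (m : M), (q ^ k : R) • s = tO R M _ m := by
  obtain ⟨⟨m, ⟨_, k, rfl⟩⟩, hm⟩ := @IsLocalizedModule.surj _ _ _ _ _ _ _ _ (.powers q)
    (tilde.toOpen (ModuleCat.of R M) (PrimeSpectrum.basicOpen q)).hom
    (isLocalizedModule_toOpen (ModuleCat.of R M) q) s
  exact ⟨k, m, hm⟩

theorem loc_smul_bijective (q : R) (j : ℕ) :
    Function.Bijective (fun s : Γ(tl R M, PrimeSpectrum.basicOpen (R := R) q) =>
      (q ^ j : R) • s) :=
  (Module.End.isUnit_iff _).1 (@IsLocalizedModule.map_units _ _ _ _ _ _ _ _ (.powers q)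
    (tilde.toOpen (ModuleCat.of R M) (PrimeSpectrum.basicOpen q)).hom
    (isLocalizedModule_toOpen (ModuleCat.of R M) q) ⟨_, j, rfl⟩)

theorem loc_eq_zero (q : R) {m : M} (h : tO R M (PrimeSpectrum.basicOpen (R := R) q) m = 0) :
    ∃ k : ℕ, q ^ k • m = 0 := by
  haveI := isLocalizedModule_toOpen (ModuleCat.of R M) q
  obtain ⟨⟨_, k, rfl⟩, hk⟩ := (@IsLocalizedModule.eq_zero_iff _ _ (.powers q) _ _ _ _ _ _
    (tilde.toOpen (ModuleCat.of R M) (PrimeSpectrum.basicOpen q)).hom
    (isLocalizedModule_toOpen (ModuleCat.of R M) q) _).1 h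
  exact ⟨k, hk⟩

/-- No element is killed by `Q`. -/
def TF {A : Type u} [CommRing A] (Q : Ideal A) (N : Type u) [AddCommGroup N] [Module A N] : Prop :=
  ∀ x : N, (∀ q ∈ Q, q • x = 0) → x = 0

theorem TF.eq_zero (h : TF Q N) {k : ℕ} {x : N} (hx : ∀ q ∈ Q ^ k, q • x = 0) : x = 0 := by
  induction k generalizing x with
  | zero => simpa using hx 1 (by simp)
  | succ k ih =>
    refine h x fun q hq => ih fun r hr => ?_
    rw [smul_smul]
    exact hx _ (by rw [pow_succ]; exact Ideal.mul_mem_mul hr hq)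

variable [IsNoetherianRing R]

theorem exists_pow_le {A : Type u} [CommRing A] [IsNoetherianRing A] {Q I : Ideal A} (h : Q ≤ I.radical) :
    ∃ k : ℕ, Q ^ k ≤ I :=
  Ideal.exists_pow_le_of_le_radical_of_fg h (IsNoetherian.noetherian Q)

theorem exists_pow_tO_eq_zero (hW : ∀ p : PrimeSpectrum R, p ∈ W ↔ ¬ Q ≤ p.asIdeal) {m : M}
    (h : tO R M W m = 0) : ∃ k : ℕ, ∀ q ∈ Q ^ k, q • m = 0 := by
  obtain ⟨k, hk⟩ := exists_pow_le (I := LinearMap.ker (LinearMap.toSpanSingleton R M m))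
    (Q := Q) fun q hq => by
    have h0 : tO R M (PrimeSpectrum.basicOpen (R := R) q) m = 0 := by
      rw [← res_tO (basicOpen_le_of_mem hW hq), h, map_zero]
    obtain ⟨n, hn⟩ := loc_eq_zero q h0
    exact ⟨n, hn⟩
  exact ⟨k, fun q hq => hk hq⟩

theorem tO_injective (hW : ∀ p : PrimeSpectrum R, p ∈ W ↔ ¬ Q ≤ p.asIdeal) (h : TF Q M) :
    Function.Injective (tO R M W) := by
  rw [injective_iff_map_eq_zero]
  intro m hm
  obtain ⟨k, hk⟩ := exists_pow_tO_eq_zero hW hm
  exact h.eq_zero hk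

theorem isCompact_opens (W : (Spec R).Opens) :
    IsCompact (W : Set (Spec R)) := by
  exact TopologicalSpace.NoetherianSpace.isCompact _

theorem exists_pow_mem_range (hW : ∀ p : PrimeSpectrum R, p ∈ W ↔ ¬ Q ≤ p.asIdeal)
    (s : Γ(tl R M, W)) :
    ∃ k : ℕ, ∀ q ∈ Q ^ k, (q : R) • s ∈ LinearMap.range (tO R M W) := by
  obtain ⟨k, hk⟩ := exists_pow_le (Q := Q)
    (I := ((LinearMap.range (tO R M W)).comap
      (LinearMap.toSpanSingleton R Γ(tl R M, W) s) : Ideal R)) fun q hq => by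
    obtain ⟨a, n, han⟩ := loc_surj q (res (tl R M) (basicOpen_le_of_mem hW hq) s)
    let f : Γ(Spec R, W) :=
      resR le_top ((Scheme.ΓSpecIso R).inv q)
    have hD : (PrimeSpectrum.basicOpen (R := R) q : (Spec R).Opens) =
        (Spec R).basicOpen f := by
      rw [show f = (Spec R).presheaf.map (homOfLE (le_top : W ≤ ⊤)).op _ from rfl,
        Scheme.basicOpen_res, basicOpen_eq_of_affine]
      exact (inf_eq_right.2 (basicOpen_le_of_mem hW hq)).symm
    haveI : (tl R M).IsQuasicoherent :=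
      Lib.QCoh.Tilde.isQCoh_tildeFunctor_obj (ModuleCat.of R M)
    obtain ⟨b, hb⟩ := Separates.exists_of_eq
      (h := exists_pow_smul_eq_zero_of_isCompact (tl R M) (isCompact_opens W) f) hD
      (basicOpen_le_of_mem hW hq) ((q ^ a : R) • s - tO R M W n)
      (by rw [map_sub, res_smul_spec, res_tO, han, sub_self])
    have hb' : (q ^ b : R) • ((q ^ a : R) • s - tO R M W n) = 0 := by
      rw [smul_spec_eq (tl R M) (q ^ b : R), map_pow, map_pow]
      exact hb
    refine ⟨b + a, ?_⟩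
    show (q ^ (b + a) : R) • s ∈ LinearMap.range (tO R M W)
    rw [smul_sub, smul_smul, ← pow_add, sub_eq_zero] at hb'
    rw [hb']
    exact Submodule.smul_mem _ _ ⟨n, rfl⟩
  exact ⟨k, fun q hq => hk hq⟩

/-- Tilde of a map bijective away from `V(Q)` is an isomorphism there. -/
theorem isIso_restrict_map (hW : ∀ p : PrimeSpectrum R, p ∈ W ↔ ¬ Q ≤ p.asIdeal) (u : M →ₗ[R] N)
    (hker : ∀ x, u x = 0 → ∃ k : ℕ, ∀ q ∈ Q ^ k, q • x = 0)
    (hcok : ∀ y, ∃ k : ℕ, ∀ q ∈ Q ^ k, q • y ∈ LinearMap.range u) :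
    IsIso ((Scheme.Modules.restrictFunctor W.ι).map
      (tilde.map (ModuleCat.ofHom u))) := by
  set φ := tilde.map (ModuleCat.ofHom u)
  have key : ∀ q : R, (PrimeSpectrum.basicOpen (R := R) q : (Spec R).Opens) ≤ W →
      Function.Bijective (φ.app (PrimeSpectrum.basicOpen (R := R) q)) := by
    intro q hq
    obtain ⟨c, hc⟩ := mem_radical_of_basicOpen_le hW hq
    have hmem : ∀ k : ℕ, q ^ (c * k) ∈ Q ^ k := fun k => by
      rw [pow_mul]; exact Ideal.pow_mem_pow hc k
    have hunit : ∀ (L : Type u) [AddCommGroup L] [Module R L] (j : ℕ),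
        Function.Injective (fun s : Γ(tl R L, PrimeSpectrum.basicOpen (R := R) q) =>
          (q ^ j : R) • s) := fun L _ _ j => (loc_smul_bijective (M := L) q j).1
    constructor
    · rw [injective_iff_map_eq_zero]
      intro s hs
      obtain ⟨a, m, ham⟩ := loc_surj q s
      have h1 : tO R N (PrimeSpectrum.basicOpen (R := R) q) (u m) = 0 := by
        rw [← app_tO u, ← ham, app_smul_spec, hs, smul_zero]
      obtain ⟨b, hb⟩ := loc_eq_zero q h1
      obtain ⟨k, hk⟩ := hker (q ^ b • m) (by rw [map_smul, hb])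
      apply hunit M (c * k + b + a)
      show (q ^ (c * k + b + a) : R) • s = (q ^ (c * k + b + a) : R) • 0
      rw [pow_add, ← smul_smul, ham, smul_zero, ← map_smul, pow_add, ← smul_smul]
      exact (congrArg (tO R M _) (hk _ (hmem k))).trans (map_zero _)
    · intro s
      obtain ⟨a, n, han⟩ := loc_surj q s
      obtain ⟨k, hk⟩ := hcok n
      obtain ⟨m, hm⟩ := hk _ (hmem k)
      obtain ⟨t, ht⟩ := (loc_smul_bijective (M := M) q (c * k + a)).2 (tO R M _ m)
      refine ⟨t, hunit N (c * k + a) ?_⟩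
      show (q ^ (c * k + a) : R) • φ.app _ t = (q ^ (c * k + a) : R) • s
      rw [← app_smul_spec]
      refine (congrArg (φ.app _) ht).trans ?_
      rw [app_tO, hm, pow_add, ← smul_smul, han]
      exact map_smul (tO R N _) _ n
  have hstalk : ∀ x : Spec R, x ∈ W →
      Function.Bijective ((Lib.Modules.Stalk.stalkFunctor _ x).map φ) := by
    intro x hx
    have hb : ∀ U : (Spec R).Opens, x ∈ U → ∃ D ≤ U, x ∈ D ∧
        Function.Bijective (φ.app D) := by
      intro U hU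
      obtain ⟨D, ⟨D', ⟨q, rfl⟩, hD⟩, hxD, hDU⟩ := PrimeSpectrum.isBasis_basic_opens.exists_subset_of_mem_open
        (show x ∈ (U ⊓ W : (Spec R).Opens) from ⟨hU, hx⟩) (U ⊓ W).2
      subst hD
      exact ⟨_, fun y hy => (hDU hy).1, hxD, key q fun y hy => (hDU hy).2⟩
    exact ⟨Lib.ClSub.Basis.stalk_injective_of_basis φ x fun U hU => by
        obtain ⟨D, h1, h2, h3⟩ := hb U hU; exact ⟨D, h1, h2, h3.1⟩,
      Lib.ClSub.Basis.stalk_surjective_of_basis φ x fun U hU => by
        obtain ⟨D, h1, h2, h3⟩ := hb U hU; exact ⟨D, h1, h2, h3.2⟩⟩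
  have hr : ∀ y : (W : Scheme.{u}), Function.Bijective ((Lib.Modules.Stalk.stalkFunctor _ y).map
      ((Scheme.Modules.restrictFunctor W.ι).map φ)) := by
    intro y
    haveI : IsIso ((Lib.Modules.Stalk.stalkFunctor _ (W.ι y)).map φ) :=
      (ConcreteCategory.isIso_iff_bijective _).2 (hstalk _ y.2)
    exact (ConcreteCategory.isIso_iff_bijective _).1
      ((NatIso.isIso_map_iff (Scheme.Modules.restrictStalkNatIso W.ι y) φ).2 this)
  have := (Lib.Modules.Stalk.epi_iff_stalk_surjective _).2 fun y => (hr y).2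
  have := (Lib.Modules.Stalk.mono_iff_stalk_injective _).2 fun y => (hr y).1
  exact isIso_of_mono_of_epi _

/-- R morphism over `V` gives a linear map on a power of `Q`; if it is an isomorphism the map is
surjective away from `V(Q)`. -/
theorem exists_linearMap_of_iso {V : (Spec R).Opens}
    (hV : ∀ p : PrimeSpectrum R, p ∈ V ↔ ¬ Q ≤ p.asIdeal) [Module.Finite R M] [Module.Finite R N]
    (hN : TF Q N) (θ : (tl R M).restrict V.ι ≅ (tl R N).restrict V.ι) :
    ∃ (k : ℕ) (f : ↥(Q ^ k • (⊤ : Submodule R M)) →ₗ[R] N) (a : ℕ),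
      Q ^ a • (⊤ : Submodule R N) ≤ LinearMap.range f := by
  classical
  let W₀ : (Spec R).Opens := V.ι ''ᵁ ⊤
  have hW₀ : ∀ p : PrimeSpectrum R, p ∈ W₀ ↔ ¬ Q ≤ p.asIdeal := fun p =>
    Iff.trans (by simp [W₀]) (hV p)
  have lin : ∀ {P P' : (Spec R).Modules} (ψ : P.restrict V.ι ⟶ P'.restrict V.ι)
      (r : R) (x : Γ(P, W₀)),
      @id Γ(P', W₀) (ψ.app ⊤ (r • x : Γ(P, W₀))) = r • @id Γ(P', W₀) (ψ.app ⊤ x) := by
    intro P P' ψ r x
    have key : ∀ g' : Γ(Spec R, W₀), @id Γ(P', W₀) (ψ.app ⊤ (g' • x : Γ(P, W₀))) =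
        g' • @id Γ(P', W₀) (ψ.app ⊤ x) := by
      intro g'
      obtain ⟨g, hg⟩ := (ConcreteCategory.bijective_of_isIso (V.ι.appIso ⊤).inv).2 g'
      rw [← hg]
      exact Scheme.Modules.Hom.app_smul ψ g x
    rw [smul_spec_eq P, smul_spec_eq P']
    exact key _
  let Θ : Γ(tl R M, W₀) →ₗ[R] Γ(tl R N, W₀) :=
    { toFun := fun x => θ.hom.app ⊤ x
      map_add' := fun x y => map_add (θ.hom.app ⊤).hom x y
      map_smul' := lin θ.hom }
  let Θ' : Γ(tl R N, W₀) →ₗ[R] Γ(tl R M, W₀) :=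
    { toFun := fun x => θ.inv.app ⊤ x
      map_add' := fun x y => map_add (θ.inv.app ⊤).hom x y
      map_smul' := lin θ.inv }
  have hΘ : ∀ x, Θ (Θ' x) = x := fun x => by
    show (θ.inv.app ⊤ ≫ θ.hom.app ⊤) x = x
    rw [← Scheme.Modules.Hom.comp_app, θ.inv_hom_id, Scheme.Modules.Hom.id_app]
    rfl
  have main : ∀ (L L' : Type u) [AddCommGroup L] [Module R L] [AddCommGroup L'] [Module R L']
      [Module.Finite R L] (ψ : Γ(tl R L, W₀) →ₗ[R] Γ(tl R L', W₀)),
      ∃ k : ℕ, ∀ x ∈ Q ^ k • (⊤ : Submodule R L),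
        ψ (tO R L W₀ x) ∈ LinearMap.range (tO R L' W₀) := by
    intro L L' _ _ _ _ hfin ψ
    obtain ⟨S, hS⟩ := hfin.fg_top
    choose kk hkk using fun x : L => exists_pow_mem_range hW₀ (ψ (tO R L W₀ x))
    refine ⟨S.sup kk, fun x hx => ?_⟩
    refine Submodule.smul_induction_on hx (fun q hq l hl₀ => ?_) (fun a b ha hb => ?_)
    · clear hl₀
      rw [show tO R L W₀ (q • l) = (q : R) • tO R L W₀ l from map_smul (tO R L W₀) q l,
        map_smul]
      have hl : l ∈ Submodule.span R (S : Set L) := hS ▸ Submodule.mem_top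
      induction hl using Submodule.span_induction with
      | mem t ht => exact hkk t q (Ideal.pow_le_pow_right (Finset.le_sup ht) hq)
      | zero => rw [map_zero, map_zero, smul_zero]; exact zero_mem _
      | add a b _ _ ha hb => rw [map_add, map_add, smul_add]; exact add_mem ha hb
      | smul r a _ ha =>
        rw [show tO R L W₀ (r • a) = (r : R) • tO R L W₀ a from map_smul (tO R L W₀) r a,
          map_smul, smul_comm]
        exact Submodule.smul_mem _ _ ha
    · rw [map_add, map_add]; exact add_mem ha hb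
  obtain ⟨k, hk⟩ := main M N Θ
  obtain ⟨k', hk'⟩ := main N M Θ'
  have hinj := tO_injective hW₀ hN
  let f₀ : ↥(Q ^ k • (⊤ : Submodule R M)) → N := fun x => (hk x x.2).choose
  have hf₀ : ∀ x, tO R N W₀ (f₀ x) = Θ (tO R M W₀ x) := fun x => (hk x x.2).choose_spec
  let f : ↥(Q ^ k • (⊤ : Submodule R M)) →ₗ[R] N :=
    { toFun := f₀
      map_add' := fun x y => hinj (by rw [hf₀, map_add, hf₀, hf₀, Submodule.coe_add, map_add, map_add])
      map_smul' := fun r x => hinj (by
        rw [hf₀, RingHom.id_apply,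
          show tO R N W₀ (r • f₀ x) = (r : R) • tO R N W₀ (f₀ x) from map_smul (tO R N W₀) r _,
          hf₀, ← map_smul]
        exact congrArg Θ (map_smul (tO R M W₀) r x.1)) }
  refine ⟨k, f, k + k', ?_⟩
  rw [pow_add, Submodule.mul_smul, Submodule.smul_le]
  intro q hq z hz
  obtain ⟨x, hx⟩ := hk' z hz
  refine ⟨⟨q • x, Submodule.smul_mem_smul hq Submodule.mem_top⟩, hinj ?_⟩
  show tO R N W₀ (f₀ _) = _
  rw [hf₀, show tO R M W₀ (q • x) = (q : R) • tO R M W₀ x from map_smul (tO R M W₀) q x,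
    map_smul, hx, hΘ]
  exact (map_smul (tO R N W₀) q z).symm

end Groth.Agent.H73.ZarPair
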