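import Groth.Agent.H73.ZarPair.Algebra
import Groth.Agent.H73.ZarPair.Sheaf
import Groth.Agent.Lib.QCoh.Pullback
import Groth.Agent.S2269
import Groth.Agent.S2265
import Groth.Agent.Lib.Excellent.CompletionNoetherian

/-!
# Coherent modules isomorphic after passing to a pair with the same completion are isomorphic
-/

set_option autoImplicit false
set_option linter.style.haveILetI false

universe u

open CategoryTheory AlgebraicGeometry TensorProduct

namespace Groth.Agent.H73.ZarPair

section algebra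

variable {A : Type u} [CommRing A] {M : Type u} [AddCommGroup M] [Module A M]
variable {N : Type u} [AddCommGroup N] [Module A N]

/-- The elements killed by a power of `Q`. -/
def tors (Q : Ideal A) (M : Type u) [AddCommGroup M] [Module A M] : Submodule A M where
  carrier := {x | ∃ k : ℕ, ∀ q ∈ Q ^ k, q • x = 0}
  zero_mem' := ⟨0, by simp⟩
  add_mem' := by
    rintro x y ⟨k, hk⟩ ⟨l, hl⟩
    refine ⟨k + l, fun q hq => ?_⟩
    rw [smul_add, hk q (Ideal.pow_le_pow_right (Nat.le_add_right _ _) hq),
      hl q (Ideal.pow_le_pow_right (Nat.le_add_left _ _) hq), add_zero]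
  smul_mem' := by
    rintro c x ⟨k, hk⟩
    exact ⟨k, fun q hq => by rw [smul_comm, hk q hq, smul_zero]⟩

theorem tors_quot_TF [IsNoetherianRing A] (Q : Ideal A) : TF Q (M ⧸ tors Q M) := by
  classical
  intro x hx
  obtain ⟨m, rfl⟩ := Submodule.Quotient.mk_surjective _ x
  obtain ⟨S, hS⟩ := (IsNoetherian.noetherian Q)
  have hmem : ∀ q ∈ Q, q • m ∈ tors Q M := fun q hq => by
    rw [← Submodule.Quotient.mk_eq_zero, Submodule.Quotient.mk_smul]
    exact hx q hq
  rw [Submodule.Quotient.mk_eq_zero]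
  have : ∀ q : A, ∃ k : ℕ, q ∈ Q → ∀ r ∈ Q ^ k, r • q • m = 0 := fun q => by
    by_cases hq : q ∈ Q
    · obtain ⟨k, hk⟩ := hmem q hq
      exact ⟨k, fun _ => hk⟩
    · exact ⟨0, fun h => absurd h hq⟩
  choose k hk using this
  refine ⟨S.sup k + 1, fun t ht => ?_⟩
  rw [pow_succ] at ht
  refine Submodule.mul_induction_on ht (fun r hr q hq => ?_) (fun a b ha hb => ?_)
  · rw [mul_smul]
    have hq' : q ∈ Submodule.span A (S : Set A) := hS.symm ▸ hq
    clear hq
    induction hq' using Submodule.span_induction with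
    | mem s hs =>
      exact hk s (hS ▸ Submodule.subset_span hs) r (Ideal.pow_le_pow_right (Finset.le_sup hs) hr)
    | zero => simp
    | add a b _ _ ha hb => rw [add_smul, smul_add, ha, hb, add_zero]
    | smul c a _ ha => rw [smul_assoc, smul_comm, ha, smul_zero]
  · rw [add_smul, ha, hb, add_zero]

theorem TF_baseChange [IsNoetherianRing A] {A' : Type u} [CommRing A'] [Algebra A A']
    [Module.Flat A A'] (Q : Ideal A) (h : TF Q M) :
    TF (Q.map (algebraMap A A')) (A' ⊗[A] M) := by
  classical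
  obtain ⟨S, hS⟩ := (IsNoetherian.noetherian Q)
  let D : M →ₗ[A] (↥S → M) := LinearMap.pi fun s => (s.1 : A) • LinearMap.id
  have hD : Function.Injective D := by
    rw [injective_iff_map_eq_zero]
    intro m hm
    refine h m fun q hq => ?_
    have hq' : q ∈ Submodule.span A (S : Set A) := hS.symm ▸ hq
    clear hq
    induction hq' using Submodule.span_induction with
    | mem s hs => exact congrFun hm ⟨s, hs⟩
    | zero => simp
    | add a b _ _ ha hb => rw [add_smul, ha, hb, add_zero]
    | smul c a _ ha => rw [smul_assoc, ha, smul_zero]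
  intro x hx
  apply Module.Flat.lTensor_preserves_injective_linearMap (M := A') D hD
  rw [map_zero]
  have hsep : ∀ Z : A' ⊗[A] (↥S → M),
      Z = ∑ i, LinearMap.lTensor A' (LinearMap.single A (fun _ : ↥S => M) i)
        (LinearMap.lTensor A' (LinearMap.proj i) Z) := by
    intro Z
    induction Z using TensorProduct.induction_on with
    | zero => simp
    | tmul a v =>
      simp only [LinearMap.lTensor_tmul, ← TensorProduct.tmul_sum]
      congr 1
      exact (Finset.univ_sum_single v).symm
    | add p q hp hq =>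
      simp only [map_add, Finset.sum_add_distrib]
      rw [← hp, ← hq]
  rw [hsep (LinearMap.lTensor A' D x)]
  refine Finset.sum_eq_zero fun i _ => ?_
  rw [← LinearMap.comp_apply (f := LinearMap.lTensor A' (LinearMap.proj i)), ← LinearMap.lTensor_comp,
    show (LinearMap.proj i).comp D = (i.1 : A) • LinearMap.id from LinearMap.proj_pi _ _,
    LinearMap.lTensor_smul, LinearMap.lTensor_id, LinearMap.smul_apply, LinearMap.id_apply,
    ← algebraMap_smul A' (i.1 : A) x,
    hx _ (Ideal.mem_map_of_mem _ (hS ▸ Submodule.subset_span i.2)), map_zero]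

/-- Two surjections away from `V(Q)` in both directions are injective there. -/
theorem exists_pow_kill [IsNoetherianRing A] [Module.Finite A M] (Q : Ideal A) {k l a b : ℕ}
    (u : ↥(Q ^ k • (⊤ : Submodule A M)) →ₗ[A] N)
    (hu : Q ^ a • (⊤ : Submodule A N) ≤ LinearMap.range u)
    (v : ↥(Q ^ l • (⊤ : Submodule A N)) →ₗ[A] M)
    (hv : Q ^ b • (⊤ : Submodule A M) ≤ LinearMap.range v)
    (x : ↥(Q ^ k • (⊤ : Submodule A M))) (hx : u x = 0) :
    ∃ m : ℕ, ∀ q ∈ Q ^ m, q • x = 0 := by
  have key : Q ≤ Ideal.radical (LinearMap.ker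
      (LinearMap.toSpanSingleton A ↥(Q ^ k • (⊤ : Submodule A M)) x) : Ideal A) := by
    rw [Ideal.radical_eq_sInf]
    refine le_sInf ?_
    rintro P ⟨hP, hPp⟩
    by_contra hQP
    haveI : P.IsPrime := hPp
    set T := P.primeCompl
    obtain ⟨q, hqQ, hqP⟩ := Set.not_subset.1 hQP
    have hq : ∀ j : ℕ, q ^ j ∈ T := fun j h => hqP (hPp.mem_of_pow_mem j h)
    have hsur : ∀ (L L' : Type u) [AddCommGroup L] [Module A L] [AddCommGroup L'] [Module A L']
        (w : L →ₗ[A] L') (c : ℕ), Q ^ c • (⊤ : Submodule A L') ≤ LinearMap.range w →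
        Function.Surjective (LocalizedModule.map T w) := by
      intro L L' _ _ _ _ w c hc y
      induction y using LocalizedModule.induction_on with
      | _ y s =>
        obtain ⟨z, hz⟩ := hc (Submodule.smul_mem_smul (Ideal.pow_mem_pow hqQ c)
          (Submodule.mem_top (x := y)))
        refine ⟨LocalizedModule.mk z (⟨q ^ c, hq c⟩ * s), ?_⟩
        rw [LocalizedModule.map_mk, hz]
        exact LocalizedModule.mk_cancel_common_left ⟨q ^ c, hq c⟩ s y
    have hbij : ∀ (L : Type u) [AddCommGroup L] [Module A L] (c : ℕ),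
        Function.Bijective (LocalizedModule.map T (Q ^ c • (⊤ : Submodule A L)).subtype) := by
      intro L _ _ c
      refine ⟨?_, hsur _ _ _ c (by rw [Submodule.range_subtype])⟩
      exact IsLocalizedModule.map_injective T _ _ _ (Submodule.injective_subtype _)
    let j₁ := LinearEquiv.ofBijective _ (hbij M k)
    let j₂ := LinearEquiv.ofBijective _ (hbij N l)
    let w := j₁.symm.toLinearMap ∘ₗ LocalizedModule.map T v ∘ₗ j₂.symm.toLinearMap ∘ₗ
      LocalizedModule.map T u
    haveI : IsNoetherian A M := isNoetherian_of_isNoetherianRing_of_finite A M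
    have hw : Function.Surjective w := j₁.symm.surjective.comp ((hsur _ _ v b hv).comp
      (j₂.symm.surjective.comp (hsur _ _ u a hu)))
    have h0 : LocalizedModule.mk x (1 : T) = 0 := by
      apply OrzechProperty.injective_of_surjective_endomorphism w hw
      simp [w, LocalizedModule.map_mk, hx]
    obtain ⟨c, hc⟩ := LocalizedModule.mk_eq.1 (h0.trans (LocalizedModule.zero_mk (1 : T)).symm)
    simp only [one_smul, smul_zero] at hc
    exact c.2 (hP (LinearMap.mem_ker.2 hc))
  obtain ⟨m, hm⟩ := exists_pow_le key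
  exact ⟨m, fun q hq => hm hq⟩

end algebra

/-- Quasi-coherent module of finite type on `U` with a torsion free model. -/
theorem exists_model (A : Type u) [CommRing A] [IsNoetherianRing A] (Q : Ideal A)
    (U : (Spec (CommRingCat.of A)).Opens) (hU : ∀ p : PrimeSpectrum A, p ∈ U ↔ ¬ Q ≤ p.asIdeal)
    (E : (U : Scheme.{u}).Modules) (hE : Coh.IsCoh E) :
    ∃ (M : Type u) (_ : AddCommGroup M) (_ : Module A M), Module.Finite A M ∧ TF Q M ∧
      Nonempty (E ≅ (tilde (R := CommRingCat.of A) (ModuleCat.of A M)).restrict U.ι) := by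
  obtain ⟨M, _, _, hM, ⟨e⟩⟩ := (Groth.Agent.S2269.result A U E).1 hE
  haveI : IsIso ((Scheme.Modules.restrictFunctor U.ι).map
      (tilde.map (R := CommRingCat.of A) (ModuleCat.ofHom (tors Q M).mkQ))) :=
    isIso_restrict_map (R := CommRingCat.of A) hU (tors Q M).mkQ
      (fun x hx => (Submodule.Quotient.mk_eq_zero _).1 hx)
      (fun y => ⟨0, fun q _ => by
        obtain ⟨m, rfl⟩ := Submodule.Quotient.mk_surjective _ y
        exact ⟨q • m, rfl⟩⟩)
  exact ⟨M ⧸ tors Q M, inferInstance, inferInstance, inferInstance, tors_quot_TF Q,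
    ⟨e ≪≫ asIso ((Scheme.Modules.restrictFunctor U.ι).map
      (tilde.map (R := CommRingCat.of A) (ModuleCat.ofHom (tors Q M).mkQ)))⟩⟩

/-- A map surjective away from `V(Q)` from an isomorphism after base change. -/
theorem exists_surj {A A' : Type u} [CommRing A] [CommRing A'] [Algebra A A'] [IsNoetherianRing A]
    [IsNoetherianRing A'] {J : Ideal A} (h : SameCompl (A' := A') J) (Q : Ideal A)
    (hQ : J ≤ Q.radical) (V' : (Spec (CommRingCat.of A')).Opens)
    (hV' : ∀ p : PrimeSpectrum A', p ∈ V' ↔ ¬ Q.map (algebraMap A A') ≤ p.asIdeal)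
    (M N : Type u) [AddCommGroup M] [Module A M] [Module.Finite A M] [AddCommGroup N] [Module A N]
    [Module.Finite A N] (hN : TF Q N)
    (θ : (tilde (R := CommRingCat.of A') (ModuleCat.of A' (A' ⊗[A] M))).restrict V'.ι ≅
      (tilde (R := CommRingCat.of A') (ModuleCat.of A' (A' ⊗[A] N))).restrict V'.ι) :
    ∃ (k a : ℕ) (u : ↥(Q ^ k • (⊤ : Submodule A M)) →ₗ[A] N),
      Q ^ a • (⊤ : Submodule A N) ≤ LinearMap.range u := by
  haveI := flat h
  obtain ⟨k, f, a, hf⟩ := exists_linearMap_of_iso (R := CommRingCat.of A') hV' (TF_baseChange Q hN) θ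
  have hrange : (Q.map (algebraMap A A')) ^ k • (⊤ : Submodule A' (A' ⊗[A] M)) =
      LinearMap.range (LinearMap.baseChange A' (Q ^ k • (⊤ : Submodule A M)).subtype) := by
    rw [← Ideal.map_pow]
    refine le_antisymm (Submodule.smul_le.2 fun r hr x _ => ?_) ?_
    · induction hr using Submodule.span_induction generalizing x with
      | mem r hr =>
        obtain ⟨q, hq, rfl⟩ := hr
        induction x using TensorProduct.induction_on with
        | zero => rw [smul_zero]; exact zero_mem _
        | tmul c m =>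
          refine ⟨c ⊗ₜ ⟨q • m, Submodule.smul_mem_smul hq Submodule.mem_top⟩, ?_⟩
          rw [LinearMap.baseChange_tmul, algebraMap_smul, ← TensorProduct.tmul_smul]
          rfl
        | add y z hy hz => rw [smul_add]; exact add_mem (hy trivial) (hz trivial)
      | zero => rw [zero_smul]; exact zero_mem _
      | add a b _ _ ha hb => rw [add_smul]; exact add_mem (ha x trivial) (hb x trivial)
      | smul c a _ ha => rw [smul_assoc]; exact Submodule.smul_mem _ _ (ha x trivial)
    · rintro _ ⟨z, rfl⟩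
      induction z using TensorProduct.induction_on with
      | zero => simp
      | tmul c m =>
        rw [LinearMap.baseChange_tmul, show c = c • (1 : A') by simp, ← TensorProduct.smul_tmul']
        exact Submodule.smul_mem _ _ (tmul_mem_map_pow _ m.2)
      | add p q hp hq => rw [map_add]; exact add_mem hp hq
  let g := (LinearMap.baseChange A' (Q ^ k • (⊤ : Submodule A M)).subtype).codRestrict
    ((Q.map (algebraMap A A')) ^ k • (⊤ : Submodule A' (A' ⊗[A] M))) (fun x => hrange ▸ ⟨x, rfl⟩)
  have hg : Function.Surjective g := by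
    rintro ⟨y, hy⟩
    obtain ⟨x, hx⟩ := hrange ▸ hy
    exact ⟨x, Subtype.ext hx⟩
  obtain ⟨u, hu⟩ := exists_map_range h Q hQ (f ∘ₗ g) a (by
    rw [Ideal.map_pow, LinearMap.range_comp_of_range_eq_top _ (LinearMap.range_eq_top.2 hg)]
    exact hf)
  exact ⟨k, a, u, hu⟩


/-- Coherent modules on an open `U ⊇ Spec A ∖ V(J)` isomorphic after base change to a pair with the
same completion are isomorphic. -/
theorem iso_of_baseChange_iso {A A' : Type u} [CommRing A] [CommRing A'] [IsNoetherianRing A]
    [IsNoetherianRing A'] [Algebra A A'] {J : Ideal A} (hsc : SameCompl (A' := A') J)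
    (U : (Spec (CommRingCat.of A)).Opens) (hU : ∀ p : PrimeSpectrum A, ¬ J ≤ p.asIdeal → p ∈ U)
    (E₁ E₂ : (U : Scheme.{u}).Modules) (h₁ : Coh.IsCoh E₁) (h₂ : Coh.IsCoh E₂)
    (ψ : (Scheme.Modules.pullback ((Spec.map (CommRingCat.ofHom (algebraMap A A'))) ∣_ U)).obj E₁ ≅
      (Scheme.Modules.pullback ((Spec.map (CommRingCat.ofHom (algebraMap A A'))) ∣_ U)).obj E₂) :
    Nonempty (E₁ ≅ E₂) := by
  let Us : Set (PrimeSpectrum A) := U.carrier
  let Q : Ideal A := PrimeSpectrum.vanishingIdeal Usᶜ
  have hUQ : ∀ p : PrimeSpectrum A, p ∈ U ↔ ¬ Q ≤ p.asIdeal := by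
    intro p
    rw [iff_not_comm]
    have : p ∈ PrimeSpectrum.zeroLocus (Q : Set A) ↔ p ∈ Usᶜ := by
      rw [PrimeSpectrum.zeroLocus_vanishingIdeal_eq_closure]
      exact Iff.of_eq (congrArg (p ∈ ·) (show IsClosed Usᶜ from U.2.isClosed_compl).closure_eq)
    exact this
  have hJQ : J ≤ Q.radical := le_trans (fun j hj => (PrimeSpectrum.mem_vanishingIdeal _ _).2
    fun p hp => by_contra fun hjp => (show p ∉ U from hp) (hU p fun hle => hjp (hle hj))) Ideal.le_radical
  haveI : Module.Flat A A' := flat hsc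
  let U' : (Spec (CommRingCat.of A')).Opens := (Spec.map (CommRingCat.ofHom (algebraMap A A'))) ⁻¹ᵁ U
  have hU' : ∀ p : PrimeSpectrum A', p ∈ U' ↔ ¬ Q.map (algebraMap A A') ≤ p.asIdeal := fun p => by
    rw [Ideal.map_le_iff_le_comap]
    exact hUQ _
  obtain ⟨M, _, _, _, hM, ⟨e₁⟩⟩ := exists_model A Q U hUQ E₁ h₁
  obtain ⟨N, _, _, _, hN, ⟨e₂⟩⟩ := exists_model A Q U hUQ E₂ h₂
  let F := Spec.map (CommRingCat.ofHom (algebraMap A A'))
  have step : ∀ (L : Type u) [AddCommGroup L] [Module A L], Nonempty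
      ((Scheme.Modules.pullback (F ∣_ U)).obj
          ((tilde (R := CommRingCat.of A) (ModuleCat.of A L)).restrict U.ι) ≅
        (tilde (R := CommRingCat.of A') (ModuleCat.of A' (A' ⊗[A] L))).restrict U'.ι) := by
    intro L _ _
    obtain ⟨p⟩ := Groth.Agent.S2265.result A A' L
    exact ⟨((Lib.QCoh.Pullback.restrictPullbackIso F U'.ι U.ι (F ∣_ U)
      (morphismRestrict_ι F U)).app _).symm ≪≫ (Scheme.Modules.restrictFunctor U'.ι).mapIso p⟩
  obtain ⟨p₁⟩ := step M
  obtain ⟨p₂⟩ := step N
  let θ := p₁.symm ≪≫ (Scheme.Modules.pullback (F ∣_ U)).mapIso e₁.symm ≪≫ ψ ≪≫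
    (Scheme.Modules.pullback (F ∣_ U)).mapIso e₂ ≪≫ p₂
  obtain ⟨k, a, u, hu⟩ := exists_surj hsc Q hJQ U' hU' M N hN θ
  obtain ⟨l, b, v, hv⟩ := exists_surj hsc Q hJQ U' hU' N M hM θ.symm
  haveI : IsIso ((Scheme.Modules.restrictFunctor U.ι).map
      (tilde.map (R := CommRingCat.of A) (ModuleCat.ofHom (Q ^ k • (⊤ : Submodule A M)).subtype))) :=
    isIso_restrict_map (R := CommRingCat.of A) hUQ _
      (fun x hx => ⟨0, fun q _ => by rw [show x = 0 from Subtype.ext hx, smul_zero]⟩)
      (fun y => ⟨k, fun q hq => ⟨⟨q • y, Submodule.smul_mem_smul hq Submodule.mem_top⟩, rfl⟩⟩)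
  haveI : IsIso ((Scheme.Modules.restrictFunctor U.ι).map
      (tilde.map (R := CommRingCat.of A) (ModuleCat.ofHom u))) :=
    isIso_restrict_map (R := CommRingCat.of A) hUQ u (fun x hx => exists_pow_kill Q u hu v hv x hx)
      (fun y => ⟨a, fun q hq => hu (Submodule.smul_mem_smul hq Submodule.mem_top)⟩)
  exact ⟨e₁ ≪≫ (asIso ((Scheme.Modules.restrictFunctor U.ι).map (tilde.map (R := CommRingCat.of A)
      (ModuleCat.ofHom (Q ^ k • (⊤ : Submodule A M)).subtype)))).symm ≪≫
    asIso ((Scheme.Modules.restrictFunctor U.ι).map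
      (tilde.map (R := CommRingCat.of A) (ModuleCat.ofHom u))) ≪≫ e₂.symm⟩


/-- The adic completion has the same completion. -/
theorem sameCompl_completion {A : Type u} [CommRing A] [IsNoetherianRing A] (J : Ideal A)
    (hJ : J ≤ (⊥ : Ideal A).jacobson) : SameCompl (A' := AdicCompletion J A) J := by
  have hfg : J.FG := IsNoetherian.noetherian J
  have hmap : ∀ n : ℕ, ∀ x : AdicCompletion J A,
      x ∈ (J ^ n).map (algebraMap A (AdicCompletion J A)) ↔ AdicCompletion.eval J A n x = 0 := by
    intro n x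
    rw [← LinearMap.mem_ker, ← AdicCompletion.pow_smul_top_eq_ker_eval hfg,
      Ideal.smul_top_eq_map, Submodule.restrictScalars_mem]
  refine ⟨fun n a ha => ?_, fun n x => ?_, hJ, ?_⟩
  · rw [← Ideal.map_pow, hmap] at ha
    have h1 : Submodule.Quotient.mk (p := (J ^ n • ⊤ : Submodule A A)) a = 0 := ha
    rw [Submodule.Quotient.mk_eq_zero, smul_eq_mul, Ideal.mul_top] at h1
    exact h1
  · obtain ⟨a, ha⟩ := Submodule.Quotient.mk_surjective _ (AdicCompletion.eval J A n x)
    refine ⟨a, ?_⟩
    rw [← Ideal.map_pow, hmap, map_sub, sub_eq_zero, ← ha]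
    rfl
  · haveI : IsAdicComplete J (AdicCompletion J A) := AdicCompletion.isAdicComplete hfg
    haveI : IsAdicComplete (J.map (algebraMap A (AdicCompletion J A))) (AdicCompletion J A) :=
      (IsAdicComplete.map_algebraMap_iff _ _).2 inferInstance
    exact IsAdicComplete.le_jacobson_bot _

end Groth.Agent.H73.ZarPair
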